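import Groth.Agent.Ribbon18.Main
import Groth.Agent.Coherent.DimShift

/-! # Extension classes of restricted cotangent sequences -/

set_option autoImplicit false
set_option backward.isDefEq.respectTransparency false
set_option backward.isDefEq.respectTransparency.types false
set_option linter.style.haveILetI false
set_option maxHeartbeats 1000000

universe w v u

open CategoryTheory CategoryTheory.Limits AlgebraicGeometry TopologicalSpace Opposite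
open Groth.Agent.OmegaLib Groth.Agent.Thick15 Groth.Agent.Omega15 Groth.Agent.Coherent

noncomputable section

namespace Groth.Agent.Ribbon18

section Cat

variable {A : Type u} [Category.{v} A] [Abelian A] [HasExt.{w} A]

/-- Equal classes give a map of extensions. -/
theorem exists_hom_of_extClass_eq {X₁ X₂ X₁' X₂' Z : A} {a : X₁ ⟶ X₂} {b : X₂ ⟶ Z} {a' : X₁' ⟶ X₂'}
    {b' : X₂' ⟶ Z} {hw : a ≫ b = 0} {hw' : a' ≫ b' = 0} (hS : (ShortComplex.mk a b hw).ShortExact)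
    (hS' : (ShortComplex.mk a' b' hw').ShortExact) (α : X₁ ⟶ X₁')
    (h : hS.extClass.comp (Abelian.Ext.mk₀ α) (add_zero 1) = hS'.extClass) :
    ∃ β : X₂ ⟶ X₂', a ≫ β = α ≫ a' ∧ β ≫ b' = b := by
  have h0 : hS.extClass.comp (Abelian.Ext.mk₀ (α ≫ a')) (add_zero 1) = 0 := by
    rw [← Abelian.Ext.mk₀_comp_mk₀, ← Abelian.Ext.comp_assoc_of_second_deg_zero, h]
    exact hS'.extClass_comp
  obtain ⟨y, hy⟩ := Abelian.Ext.contravariant_sequence_exact₁ hS X₂' (Abelian.Ext.mk₀ (α ≫ a')) (add_zero 1) h0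
  obtain ⟨β₀, rfl⟩ := (Abelian.Ext.mk₀_bijective _ _).2 y
  rw [Abelian.Ext.mk₀_comp_mk₀] at hy
  have hβ₀ : a ≫ β₀ = α ≫ a' := (Abelian.Ext.mk₀_bijective _ _).1 hy
  have hk : a ≫ (β₀ ≫ b' - b) = 0 := by
    rw [Preadditive.comp_sub, reassoc_of% hβ₀, hw', comp_zero, hw, sub_zero]
  haveI := hS.epi_g
  let δ : Z ⟶ Z := hS.exact.desc (β₀ ≫ b' - b) hk
  have hδ : b ≫ δ = β₀ ≫ b' - b := hS.exact.g_desc _ hk
  let τ : ShortComplex.mk a b hw ⟶ ShortComplex.mk a' b' hw' :=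
    ShortComplex.homMk α β₀ (𝟙 Z + δ) hβ₀.symm (by
      show β₀ ≫ b' = b ≫ (𝟙 Z + δ)
      rw [Preadditive.comp_add, Category.comp_id, hδ, add_sub_cancel])
  have hnat : hS.extClass.comp (Abelian.Ext.mk₀ α) (add_zero 1) =
      (Abelian.Ext.mk₀ (𝟙 Z + δ)).comp hS'.extClass (zero_add 1) :=
    ShortComplex.ShortExact.extClass_naturality hS hS' τ
  rw [h, Abelian.Ext.mk₀_add, Abelian.Ext.add_comp, Abelian.Ext.mk₀_id_comp, left_eq_add] at hnat
  obtain ⟨y', hy'⟩ := (comp_extClass_eq_zero_iff hS' _).1 hnat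
  obtain ⟨δ', rfl⟩ := (Abelian.Ext.mk₀_bijective _ _).2 y'
  rw [Abelian.Ext.mk₀_comp_mk₀] at hy'
  have hδ' : δ' ≫ b' = δ := (Abelian.Ext.mk₀_bijective _ _).1 hy'
  refine ⟨β₀ - b ≫ δ', ?_, ?_⟩
  · rw [Preadditive.comp_sub, reassoc_of% hw, zero_comp, sub_zero, hβ₀]
  · rw [Preadditive.sub_comp, Category.assoc, hδ', hδ, sub_sub_cancel]

/-- A map of extensions of the same object carries the class of the first to that of the second. -/
theorem extClass_comp_eq {X₁ X₂ X₁' X₂' Z : A} {a : X₁ ⟶ X₂} {b : X₂ ⟶ Z} {a' : X₁' ⟶ X₂'}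
    {b' : X₂' ⟶ Z} {hw : a ≫ b = 0} {hw' : a' ≫ b' = 0} (hS : (ShortComplex.mk a b hw).ShortExact)
    (hS' : (ShortComplex.mk a' b' hw').ShortExact) (α : X₁ ⟶ X₁') (β : X₂ ⟶ X₂')
    (h₁ : a ≫ β = α ≫ a') (h₂ : β ≫ b' = b) :
    hS.extClass.comp (Abelian.Ext.mk₀ α) (add_zero 1) = hS'.extClass := by
  have := ShortComplex.ShortExact.extClass_naturality hS hS'
    (ShortComplex.homMk α β (𝟙 Z) h₁.symm (by show β ≫ b' = b ≫ 𝟙 Z; rw [h₂, Category.comp_id]))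
  rw [show (ShortComplex.homMk α β (𝟙 Z) h₁.symm _ : ShortComplex.mk a b hw ⟶ ShortComplex.mk a' b' hw').τ₃ = 𝟙 Z
    from rfl] at this
  exact this.trans (Abelian.Ext.mk₀_id_comp _)

theorem isIso_mid {X₁ X₂ X₁' X₂' Z : A} {a : X₁ ⟶ X₂} {b : X₂ ⟶ Z} {a' : X₁' ⟶ X₂'}
    {b' : X₂' ⟶ Z} {hw : a ≫ b = 0} {hw' : a' ≫ b' = 0} (hS : (ShortComplex.mk a b hw).ShortExact)
    (hS' : (ShortComplex.mk a' b' hw').ShortExact) (α : X₁ ⟶ X₁') [IsIso α] (β : X₂ ⟶ X₂')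
    (h₁ : a ≫ β = α ≫ a') (h₂ : β ≫ b' = b) : IsIso β := by
  let τ : ShortComplex.mk a b hw ⟶ ShortComplex.mk a' b' hw' :=
    ShortComplex.homMk α β (𝟙 Z) h₁.symm (by show β ≫ b' = b ≫ 𝟙 Z; rw [h₂, Category.comp_id])
  haveI h3 : IsIso τ.τ₃ := show IsIso (𝟙 Z) from inferInstance
  haveI h4 : IsIso τ.τ₁ := show IsIso α from inferInstance
  exact ShortComplex.isIso₂_of_shortExact_of_isIso₁₃' τ hS hS' h4 h3

end Cat

variable {D C C' S : Scheme.{u}} {i : D ⟶ C} {i' : D ⟶ C'} {pC : C ⟶ S} {pC' : C' ⟶ S}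
  {Ω₁ : C.Modules} {d₁ : OmegaSh.Der pC Ω₁} {Ω₁' : C'.Modules} {d₁' : OmegaSh.Der pC' Ω₁'}
  [IsClosedImmersion i] [IsClosedImmersion i']
  {φ : Omega.conormal i ⟶ (Scheme.Modules.pullback i).obj Ω₁} (hφ : OmegaSh.IsConormalDiff i d₁ φ)
  {φ' : Omega.conormal i' ⟶ (Scheme.Modules.pullback i').obj Ω₁'} (hφ' : OmegaSh.IsConormalDiff i' d₁' φ')

include hφ hφ' in
/-- The map of conormal sheaves and the map of restricted differentials induced by `g` commute. -/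
theorem conormalMap_comm {g : C ⟶ C'} (hg : i ≫ g = i')
    {β : (Scheme.Modules.pullback i').obj Ω₁' ⟶ (Scheme.Modules.pullback i).obj Ω₁}
    (hβ : IsPdMap i d₁ i' d₁' g β)
    (α : (Scheme.Modules.pullback (𝟙 D)).obj (Omega.conormal i') ⟶ Omega.conormal i)
    (hα : OmegaSh.IsConormalMap i i' g (𝟙 D) α) :
    φ' ≫ β = ((Scheme.Modules.pullbackId D).inv.app (Omega.conormal i') ≫ α) ≫ φ := by
  subst hg
  refine hom_ext_pullSect (i ≫ g) fun U' s' => ?_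
  have h0 : i.app (g ⁻¹ᵁ U') (g.app U' (OmegaSh.idealSect (i ≫ g).ker U' s')) = 0 :=
    app_idealSect_eq_zero (i ≫ g) U' s'
  obtain ⟨t, ht⟩ := exists_idealSect_of_app_eq_zero i (g ⁻¹ᵁ U') _ h0
  have h1 := hα.2 U' s' t ht (i ⁻¹ᵁ (g ⁻¹ᵁ U')) (le_refl _) (le_refl _)
  have h2 : α.app ((i ≫ g) ⁻¹ᵁ U') (OmegaSh.pullSect (𝟙 D) (Omega.conormal (i ≫ g)) _
      (OmegaSh.conormalSect (i ≫ g) U' s')) = OmegaSh.conormalSect i (g ⁻¹ᵁ U') t :=
    (resM_refl (Omega.conormal i) _).symm.trans (h1.trans (resM_refl (Omega.conormal i) _))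
  show β.app _ (φ'.app _ (OmegaSh.conormalSect (i ≫ g) U' s')) =
    φ.app _ (α.app _ (((Scheme.Modules.pullbackId D).inv.app (Omega.conormal (i ≫ g))).app _
      (OmegaSh.conormalSect (i ≫ g) U' s')))
  rw [pullbackId_inv_app, h2, hφ' U' s']
  refine ((hβ U' _ (le_refl _)).symm.trans (resM_refl _ _)).trans ?_
  refine Eq.trans ?_ (hφ (g ⁻¹ᵁ U') t).symm
  exact congrArg (pd i d₁ _) ht.symm

end Groth.Agent.Ribbon18
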