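import Groth.Agent.Omega15.RetractSeq
import Groth.Agent.Omega15.ConormalPi
import Groth.Agent.Thick15.ConormalStalk
import Groth.Agent.Coherent.QcohLocal
import Groth.Agent.LiftObs29.Affine

/-! # The structure sheaf of a square-zero thickening through differentials -/

set_option autoImplicit false
set_option backward.isDefEq.respectTransparency false
set_option backward.isDefEq.respectTransparency.types false
set_option linter.style.haveILetI false
set_option maxHeartbeats 1000000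

universe u

open CategoryTheory CategoryTheory.Limits AlgebraicGeometry TopologicalSpace Opposite
open Groth.Agent.OmegaLib Groth.Agent.Thick15 Groth.Agent.Omega15 Groth.Agent.Coherent

noncomputable section

namespace Groth.Agent.Ribbon18

variable {D C S : Scheme.{u}} (i : D ⟶ C) {pC : C ⟶ S} {Ω₁ : C.Modules} (d₁ : OmegaSh.Der pC Ω₁)

/-- `x ↦ i^* d x` -/
def pd (V : C.Opens) : Γ(C, V) →+ Γ(((Scheme.Modules.pullback i).obj Ω₁), i ⁻¹ᵁ V) :=
  (OmegaSh.pullSect i Ω₁ V).hom.comp (d₁.app V)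

theorem pd_mul (V : C.Opens) (a b : Γ(C, V)) :
    pd i d₁ V (a * b) = i.app V a • pd i d₁ V b + i.app V b • pd i d₁ V a := by
  show OmegaSh.pullSect i Ω₁ V (d₁.app V (a * b)) = _
  rw [app_mul, map_add, PrinLib.pullSect_smul, PrinLib.pullSect_smul]
  rfl

theorem pd_map {V V' : C.Opens} (h : V' ≤ V) (a : Γ(C, V)) :
    pd i d₁ V' (C.presheaf.map (homOfLE h).op a) = resM ((Scheme.Modules.pullback i).obj Ω₁) (i.preimage_mono h) (pd i d₁ V a) := by
  show OmegaSh.pullSect i Ω₁ V' (d₁.app V' _) = _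
  refine (congrArg (OmegaSh.pullSect i Ω₁ V') (app_map d₁ h a)).trans ?_
  exact congr(($(((Scheme.Modules.pullbackPushforwardAdjunction i).unit.app Ω₁).mapPresheaf.naturality
    (homOfLE h).op)) (d₁.app V a))

theorem app_res {V V' : C.Opens} (h : V' ≤ V) (a : Γ(C, V)) :
    i.app V' (C.presheaf.map (homOfLE h).op a) = D.presheaf.map (homOfLE (i.preimage_mono h)).op (i.app V a) :=
  congr($(i.naturality (homOfLE h).op) a)

variable [IsClosedImmersion i] (hI : i.ker ^ 2 = ⊥)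

include hI in
theorem ker_tm_sq (z : D) : RingHom.ker (tm i (x := z) rfl).hom ^ 2 = ⊥ := by
  rw [pow_two, eq_bot_iff, Ideal.mul_le]
  intro a ha b hb
  obtain ⟨U, hU, s, rfl⟩ := exists_germ_idealSect i z rfl ha
  obtain ⟨U', hU', s', rfl⟩ := exists_germ_idealSect i z rfl hb
  obtain ⟨W, hW, hzW, hWU⟩ :=
    exists_isAffineOpen_mem_and_subset (x := i z) (U := U ⊓ U') ⟨hU, hU'⟩
  replace hWU : W ≤ U ⊓ U' := hWU
  have hmem : ∀ {V : C.Opens} (h : W ≤ V) (t : Γ(ClSub.idealMod i.ker, V)),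
      C.presheaf.map (homOfLE h).op (OmegaSh.idealSect i.ker V t) ∈ i.ker.ideal ⟨W, hW⟩ := fun {V} h t => by
    rw [Scheme.Hom.ker_apply, RingHom.mem_ker]
    exact (app_res i h _).trans (by rw [app_idealSect_eq_zero, map_zero])
  have h0 : C.presheaf.map (homOfLE (hWU.trans inf_le_left : W ≤ U)).op (OmegaSh.idealSect i.ker U s) *
      C.presheaf.map (homOfLE (hWU.trans inf_le_right : W ≤ U')).op (OmegaSh.idealSect i.ker U' s') = 0 := by
    have h3 := Ideal.mul_mem_mul (hmem (hWU.trans inf_le_left : W ≤ U) s) (hmem (hWU.trans inf_le_right : W ≤ U') s')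
    have h4 := congrArg (fun J : C.IdealSheafData => J.ideal ⟨W, hW⟩) hI
    simp only [pow_two, Scheme.IdealSheafData.ideal_mul, Pi.mul_apply] at h4
    rw [h4] at h3
    exact (Ideal.mem_bot).1 h3
  rw [Submodule.mem_bot, ← C.presheaf.germ_res_apply (homOfLE (hWU.trans inf_le_left : W ≤ U)) (i z) hzW,
    ← C.presheaf.germ_res_apply (homOfLE (hWU.trans inf_le_right : W ≤ U')) (i z) hzW, ← map_mul, h0, map_zero]

include hI in
theorem surjective_i : Function.Surjective i :=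
  (LiftObs29.surjective_of_ker_pow_eq_bot i (m := 1) hI).surj

include hI in
theorem conormalSect_injective {V : C.Opens} (s : Γ(ClSub.idealMod i.ker, V))
    (h : OmegaSh.conormalSect i V s = 0) : OmegaSh.idealSect i.ker V s = 0 := by
  refine TopCat.Presheaf.section_ext C.sheaf V _ _ fun y hy => ?_
  obtain ⟨z, rfl⟩ := surjective_i i hI y
  obtain ⟨π, hπ⟩ := exists_pi i z (y := i z) rfl
  have hm := germ_idealSect_mem i z rfl V hy s
  have h1 : π ⟨_, hm⟩ = 0 := by rw [hπ.2.2.2 V hy s hm, h]; exact map_zero _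
  have h2 := (hπ.2.1 _).1 h1
  rw [ker_tm_sq i hI z, Submodule.mem_bot] at h2
  exact h2.trans (map_zero _).symm

variable {Ω₂ : D.Modules} {pD : D ⟶ S} {d₂ : OmegaSh.Der pD Ω₂} {φ : Omega.conormal i ⟶ ((Scheme.Modules.pullback i).obj Ω₁)}
  (hφ : OmegaSh.IsConormalDiff i d₁ φ) {c : ((Scheme.Modules.pullback i).obj Ω₁) ⟶ Ω₂} (hc : OmegaSh.IsDiffCompat i d₁ d₂ c)
  (hw : φ ≫ c = 0) (hS : (ShortComplex.mk φ c hw).ShortExact)

include hI hφ hS in
/-- A function is determined by its restriction to `D` and its differential. -/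
theorem eq_zero_of_app_eq_zero {V : C.Opens} {x : Γ(C, V)} (h₀ : i.app V x = 0) (h₁ : pd i d₁ V x = 0) :
    x = 0 := by
  obtain ⟨s, rfl⟩ := exists_idealSect_of_app_eq_zero i V x h₀
  refine conormalSect_injective i hI s (sections_injective hS (i ⁻¹ᵁ V) ?_)
  show φ.app _ _ = φ.app _ 0
  rw [map_zero, hφ V s]
  exact h₁

include hI hφ hS in
theorem eq_of_app_eq {V : C.Opens} {x y : Γ(C, V)} (h₀ : i.app V x = i.app V y)
    (h₁ : pd i d₁ V x = pd i d₁ V y) : x = y :=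
  sub_eq_zero.1 (eq_zero_of_app_eq_zero i d₁ hI hφ hw hS (by rw [map_sub, h₀, sub_self])
    (by rw [map_sub, h₁, sub_self]))

include hφ hc hS in
theorem exists_local {V : C.Opens} (b : Γ(D, i ⁻¹ᵁ V)) (w : Γ(((Scheme.Modules.pullback i).obj Ω₁), i ⁻¹ᵁ V))
    (hbw : c.app _ w = d₂.app _ b) (z : D) (hz : z ∈ i ⁻¹ᵁ V) :
    ∃ (V' : C.Opens) (hV' : V' ≤ V) (x : Γ(C, V')), i z ∈ V' ∧
      i.app V' x = D.presheaf.map (homOfLE (i.preimage_mono hV')).op b ∧
      pd i d₁ V' x = resM ((Scheme.Modules.pullback i).obj Ω₁) (i.preimage_mono hV') w := by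
  obtain ⟨A, hA, hzA, hAV⟩ := exists_isAffineOpen_mem_and_subset (x := i z) (U := V) hz
  replace hAV : A ≤ V := hAV
  obtain ⟨x₀, hx₀⟩ := i.app_surjective A hA (D.presheaf.map (homOfLE (i.preimage_mono hAV)).op b)
  have hker : c.app (i ⁻¹ᵁ A) (resM ((Scheme.Modules.pullback i).obj Ω₁) (i.preimage_mono hAV) w - pd i d₁ A x₀) = 0 := by
    rw [map_sub, sub_eq_zero, app_resM, hbw]
    refine Eq.trans ?_ (hc A x₀).symm
    rw [hx₀, app_map]
  obtain ⟨t, ht⟩ := sections_exact hS _ hker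
  change φ.app (i ⁻¹ᵁ A) t = _ at ht
  obtain ⟨U, hU, s, hs⟩ := exists_gm_conormalSect i z (gm (Omega.conormal i) (i ⁻¹ᵁ A) z hzA t)
  obtain ⟨W, hzW, l₁, l₂, hW⟩ := (Omega.conormal i).presheaf.germ_eq z hzA hU _ _ hs
  obtain ⟨O, hO, hOW⟩ := i.isClosedEmbedding.isInducing.isOpen_iff.1 W.2
  let V' : C.Opens := A ⊓ U ⊓ ⟨O, hO⟩
  have hiV' : i ⁻¹ᵁ V' ≤ W := fun y hy => by
    show y ∈ W.carrier
    rw [← hOW]
    exact hy.2
  have hA' : V' ≤ A := inf_le_left.trans inf_le_left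
  have hU' : V' ≤ U := inf_le_left.trans inf_le_right
  have hzV' : i z ∈ V' := ⟨⟨hzA, hU⟩, by
    show i z ∈ O
    exact (Set.ext_iff.1 hOW z).2 hzW⟩
  let s' : Γ(ClSub.idealMod i.ker, V') := (ClSub.idealMod i.ker).presheaf.map (homOfLE hU').op s
  have hts : resM (Omega.conormal i) (i.preimage_mono hA') t = OmegaSh.conormalSect i V' s' := by
    have e := congrArg (resM (Omega.conormal i) hiV') (show resM (Omega.conormal i) (leOfHom l₁) t =
      resM (Omega.conormal i) (leOfHom l₂) (OmegaSh.conormalSect i U s) from hW)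
    rw [resM_resM, resM_resM] at e
    refine e.trans ?_
    have h5 := conormalSect_map i hU' s (i ⁻¹ᵁ V') le_rfl (i.preimage_mono hU')
    refine Eq.trans h5.symm ?_
    exact PicLib.resM_self _ _ _
  refine ⟨V', hA'.trans hAV, C.presheaf.map (homOfLE hA').op x₀ + OmegaSh.idealSect i.ker V' s', hzV', ?_, ?_⟩
  · rw [map_add, app_idealSect_eq_zero, add_zero, app_res, hx₀, ← Functor.map_comp_apply]
    rfl
  · rw [map_add, pd_map]
    have h6 : pd i d₁ V' (OmegaSh.idealSect i.ker V' s') = φ.app (i ⁻¹ᵁ V') (OmegaSh.conormalSect i V' s') :=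
      (hφ V' s').symm
    rw [h6, ← hts, app_resM, ht, map_sub, resM_resM]
    abel

include hI hφ hc hS in
theorem exists_unique_section {V : C.Opens} (b : Γ(D, i ⁻¹ᵁ V)) (w : Γ(((Scheme.Modules.pullback i).obj Ω₁), i ⁻¹ᵁ V))
    (hbw : c.app _ w = d₂.app _ b) : ∃! x : Γ(C, V), i.app V x = b ∧ pd i d₁ V x = w := by
  choose W hW x hzW hxb hxw using fun z : (i ⁻¹ᵁ V : D.Opens) =>
    exists_local i d₁ hφ hc hw hS b w hbw z.1 z.2
  have hcov : V ≤ iSup W := fun y hy => by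
    obtain ⟨z, rfl⟩ := surjective_i i hI y
    exact Opens.mem_iSup.2 ⟨⟨z, hy⟩, hzW ⟨z, hy⟩⟩
  obtain ⟨s, hs, -⟩ := C.sheaf.existsUnique_gluing' W V (fun z => homOfLE (hW z)) hcov x fun z z' => by
    refine eq_of_app_eq i d₁ hI hφ hw hS ?_ ?_
    · show i.app (W z ⊓ W z') (C.presheaf.map (homOfLE inf_le_left).op (x z)) =
        i.app (W z ⊓ W z') (C.presheaf.map (homOfLE inf_le_right).op (x z'))
      rw [app_res, app_res, hxb, hxb, ← Functor.map_comp_apply, ← Functor.map_comp_apply]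
      rfl
    · show pd i d₁ (W z ⊓ W z') (C.presheaf.map (homOfLE inf_le_left).op (x z)) =
        pd i d₁ (W z ⊓ W z') (C.presheaf.map (homOfLE inf_le_right).op (x z'))
      rw [pd_map, pd_map, hxw, hxw, resM_resM, resM_resM]
  have hs' : ∀ z, C.presheaf.map (homOfLE (hW z)).op s = x z := hs
  refine ⟨s, ⟨?_, ?_⟩, fun y hy => ?_⟩
  · refine TopCat.Sheaf.eq_of_locally_eq' D.sheaf (fun z => i ⁻¹ᵁ W z) (i ⁻¹ᵁ V)
      (fun z => homOfLE (i.preimage_mono (hW z))) (fun y hy => ?_) _ _ fun z => ?_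
    · exact Opens.mem_iSup.2 ⟨⟨y, hy⟩, hzW ⟨y, hy⟩⟩
    · show D.presheaf.map _ _ = D.presheaf.map _ _
      rw [← app_res i (hW z), hs', hxb]
  · refine section_ext fun y hy => ⟨i ⁻¹ᵁ W ⟨y, hy⟩, i.preimage_mono (hW _), hzW ⟨y, hy⟩, ?_⟩
    show resM ((Scheme.Modules.pullback i).obj Ω₁) _ _ = resM ((Scheme.Modules.pullback i).obj Ω₁) _ _
    rw [← pd_map i d₁ (hW _), hs', hxw]
  · refine eq_of_app_eq i d₁ hI hφ hw hS ?_ ?_
    · rw [hy.1]
      refine (TopCat.Sheaf.eq_of_locally_eq' D.sheaf (fun z => i ⁻¹ᵁ W z) (i ⁻¹ᵁ V)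
        (fun z => homOfLE (i.preimage_mono (hW z))) (fun y hy => ?_) _ _ fun z => ?_).symm
      · exact Opens.mem_iSup.2 ⟨⟨y, hy⟩, hzW ⟨y, hy⟩⟩
      · show D.presheaf.map _ _ = D.presheaf.map _ _
        rw [← app_res i (hW z), hs', hxb]
    · rw [hy.2]
      refine (section_ext fun y hy => ⟨i ⁻¹ᵁ W ⟨y, hy⟩, i.preimage_mono (hW _), hzW ⟨y, hy⟩, ?_⟩).symm
      show resM ((Scheme.Modules.pullback i).obj Ω₁) _ _ = resM ((Scheme.Modules.pullback i).obj Ω₁) _ _
      rw [← pd_map i d₁ (hW _), hs', hxw]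

end Groth.Agent.Ribbon18
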