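import Groth.Agent.Ribbon18.Lift

/-! # Maps out of a square-zero thickening through differentials -/

set_option autoImplicit false
set_option backward.isDefEq.respectTransparency false
set_option backward.isDefEq.respectTransparency.types false
set_option linter.style.haveILetI false
set_option maxHeartbeats 1000000

universe u

open CategoryTheory CategoryTheory.Limits AlgebraicGeometry TopologicalSpace Opposite
open Groth.Agent.OmegaLib Groth.Agent.Thick15 Groth.Agent.Omega15 Groth.Agent.Coherent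

noncomputable section

namespace Groth.Agent.Ribbon18

variable {D C S X : Scheme.{u}} {i : D ⟶ C} {pC : C ⟶ S} {Ω₁ : C.Modules} {d₁ : OmegaSh.Der pC Ω₁}
  {Ω₂ : D.Modules} {pD : D ⟶ S} {d₂ : OmegaSh.Der pD Ω₂} {pX : X ⟶ S} {f : D ⟶ X} {Ω₃ : X.Modules}
  {d₃ : OmegaSh.Der pX Ω₃}

variable (i d₁ d₃ f) in
/-- `s` is the map induced by `g` on restricted differentials. -/
def IsPdMap (g : C ⟶ X) (s : (Scheme.Modules.pullback f).obj Ω₃ ⟶ (Scheme.Modules.pullback i).obj Ω₁) : Prop :=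
  ∀ (U : X.Opens) (a : Γ(X, U)) (h : f ⁻¹ᵁ U ≤ i ⁻¹ᵁ (g ⁻¹ᵁ U)),
    resM ((Scheme.Modules.pullback i).obj Ω₁) h (pd i d₁ (g ⁻¹ᵁ U) (g.app U a)) =
      s.app (f ⁻¹ᵁ U) (OmegaSh.pullSect f Ω₃ U (d₃.app U a))

/-- A map out of `C` extending `f` induces a map of restricted differentials, lifting `df`. -/
theorem exists_isPdMap {c : (Scheme.Modules.pullback i).obj Ω₁ ⟶ Ω₂}
    (hc : OmegaSh.IsDiffCompat i d₁ d₂ c) (hd₃ : OmegaSh.IsUniversal d₃)
    {df : (Scheme.Modules.pullback f).obj Ω₃ ⟶ Ω₂} (hdf : OmegaSh.IsDiffCompat f d₃ d₂ df)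
    (g : C ⟶ X) (hg : i ≫ g = f) (hgS : g ≫ pX = pC) :
    ∃ s : (Scheme.Modules.pullback f).obj Ω₃ ⟶ (Scheme.Modules.pullback i).obj Ω₁,
      IsPdMap i d₁ f d₃ g s ∧ s ≫ c = df := by
  subst hg hgS
  let P := (Scheme.Modules.pullback i).obj Ω₁
  let δ : OmegaSh.Der pX ((Scheme.Modules.pushforward (i ≫ g)).obj P) :=
    { d := fun {U} => AddMonoidHom.mk' (fun a => pd i d₁ (g ⁻¹ᵁ U.unop) (g.app U.unop a))
        (fun a b => (congrArg (pd i d₁ _) (map_add (g.app U.unop).hom a b)).trans (map_add _ _ _))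
      d_mul := fun {U} a b => by
        show pd i d₁ (g ⁻¹ᵁ U.unop) (g.app U.unop (a * b)) = _
        rw [map_mul, pd_mul]
        rfl
      d_map := fun {U V} h a => by
        show pd i d₁ (g ⁻¹ᵁ V.unop) (g.app V.unop (X.presheaf.map h a)) = _
        rw [show g.app V.unop (X.presheaf.map h a) = C.presheaf.map (homOfLE (g.preimage_mono h.unop.le)).op
          (g.app U.unop a) from congr($(g.naturality h) a), pd_map]
        rfl
      d_app := fun {V} a => by
        show pd i d₁ ((g ≫ pX) ⁻¹ᵁ V.unop) ((g ≫ pX).app V.unop a) = 0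
        rw [pd, AddMonoidHom.comp_apply, app_app, map_zero] }
  obtain ⟨α, hα, -⟩ := hd₃ _ δ
  have h1 : (Scheme.Modules.pullbackPushforwardAdjunction (i ≫ g)).unit.app _ ≫
      (Scheme.Modules.pushforward (i ≫ g)).map
        (((Scheme.Modules.pullbackPushforwardAdjunction (i ≫ g)).homEquiv _ _).symm α) = α :=
    ((Scheme.Modules.pullbackPushforwardAdjunction (i ≫ g)).homEquiv_unit _ _ _).symm.trans (Equiv.apply_symm_apply _ α)
  have h2 : ∀ U a, α.app U (d₃.app U a) = δ.app U a := fun U a => by rw [← hα]; rfl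
  refine ⟨((Scheme.Modules.pullbackPushforwardAdjunction (i ≫ g)).homEquiv _ _).symm α, fun U a h => ?_,
    hom_ext_pull_der (i ≫ g) hd₃ fun U a => ?_⟩
  · exact (resM_refl _ _).trans (((congr(($h1).app U (d₃.app U a))).trans (h2 U a)).symm)
  · refine (congrArg (c.app ((i ≫ g) ⁻¹ᵁ U)) ((congr(($h1).app U (d₃.app U a))).trans (h2 U a))).trans ?_
    exact (hc (g ⁻¹ᵁ U) (g.app U a)).trans (hdf U a).symm

/-- A map out of `C` extending `f` gives a lift of `df`. -/
theorem exists_splitting_of_hom {c : (Scheme.Modules.pullback i).obj Ω₁ ⟶ Ω₂}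
    (hc : OmegaSh.IsDiffCompat i d₁ d₂ c) (hd₃ : OmegaSh.IsUniversal d₃)
    {df : (Scheme.Modules.pullback f).obj Ω₃ ⟶ Ω₂} (hdf : OmegaSh.IsDiffCompat f d₃ d₂ df)
    (g : C ⟶ X) (hg : i ≫ g = f) (hgS : g ≫ pX = pC) :
    ∃ s : (Scheme.Modules.pullback f).obj Ω₃ ⟶ (Scheme.Modules.pullback i).obj Ω₁, s ≫ c = df :=
  (exists_isPdMap hc hd₃ hdf g hg hgS).imp fun _ h => h.2

theorem isPdMap_eq (hd₃ : OmegaSh.IsUniversal d₃) {g : C ⟶ X} (hg : i ≫ g = f)
    {s s' : (Scheme.Modules.pullback f).obj Ω₃ ⟶ (Scheme.Modules.pullback i).obj Ω₁}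
    (h : IsPdMap i d₁ f d₃ g s) (h' : IsPdMap i d₁ f d₃ g s') : s = s' := by
  subst hg
  exact hom_ext_pull_der (i ≫ g) hd₃ fun U a => ((h U a (le_refl _)).symm.trans (h' U a (le_refl _)))

theorem isPdMap_id : IsPdMap i d₁ i d₁ (𝟙 C) (𝟙 ((Scheme.Modules.pullback i).obj Ω₁)) :=
  fun U a _ => resM_refl _ _

theorem IsPdMap.comp {C' : Scheme.{u}} {i' : D ⟶ C'} {pC' : C' ⟶ S} {Ω₁' : C'.Modules} {d₁' : OmegaSh.Der pC' Ω₁'}
    {g : C ⟶ C'} {β : (Scheme.Modules.pullback i').obj Ω₁' ⟶ (Scheme.Modules.pullback i).obj Ω₁}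
    (hβ : IsPdMap i d₁ i' d₁' g β) (hg : i ≫ g = i') {g' : C' ⟶ X}
    {s : (Scheme.Modules.pullback f).obj Ω₃ ⟶ (Scheme.Modules.pullback i').obj Ω₁'}
    (hs : IsPdMap i' d₁' f d₃ g' s) (hg' : i' ≫ g' = f) :
    IsPdMap i d₁ f d₃ (g ≫ g') (s ≫ β) := by
  subst hg
  subst hg'
  intro U a h
  refine (resM_refl _ _).trans ?_
  refine ((resM_refl _ _).symm.trans (hβ (g' ⁻¹ᵁ U) (g'.app U a) (le_refl _))).trans ?_
  refine Eq.trans ?_ (congrArg (β.app _) (hs U a (le_refl _)))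
  exact congrArg (β.app _) (resM_refl _ _).symm

section Back

variable [IsClosedImmersion i] (hI : i.ker ^ 2 = ⊥) {φ : Omega.conormal i ⟶ (Scheme.Modules.pullback i).obj Ω₁}
  (hφ : OmegaSh.IsConormalDiff i d₁ φ) {c : (Scheme.Modules.pullback i).obj Ω₁ ⟶ Ω₂}
  (hc : OmegaSh.IsDiffCompat i d₁ d₂ c)
  (hw : φ ≫ c = 0) (hS : (ShortComplex.mk φ c hw).ShortExact)

include hI hφ hc hS in
/-- A lift of `df` gives a map out of `C` extending `f`. -/
theorem exists_hom_of_splitting (hf : f ≫ pX = i ≫ pC)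
    {df : (Scheme.Modules.pullback f).obj Ω₃ ⟶ Ω₂} (hdf : OmegaSh.IsDiffCompat f d₃ d₂ df)
    (s : (Scheme.Modules.pullback f).obj Ω₃ ⟶ (Scheme.Modules.pullback i).obj Ω₁) (hs : s ≫ c = df) :
    ∃ g : C ⟶ X, i ≫ g = f ∧ g ≫ pX = pC ∧ IsPdMap i d₁ f d₃ g s := by
  let P := (Scheme.Modules.pullback i).obj Ω₁
  let e := i.isClosedEmbedding.isEmbedding.toHomeomorphOfSurjective (surjective_i i hI)
  have he : ∀ z : D, e.symm (i z) = z := fun z => e.symm_apply_apply z
  let gb : C(C, X) := ⟨fun y => f (e.symm y), f.continuous.comp e.symm.continuous⟩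
  let pre : X.Opens → C.Opens := fun U => ⟨gb ⁻¹' U, U.2.preimage gb.continuous⟩
  have hpre : ∀ U, i ⁻¹ᵁ pre U ≤ f ⁻¹ᵁ U := fun U z hz => by
    show f z ∈ U
    rw [← he z]
    exact hz
  have hpre' : ∀ U, f ⁻¹ᵁ U ≤ i ⁻¹ᵁ pre U := fun U z hz => by
    show f (e.symm (i z)) ∈ U
    rw [he z]
    exact hz
  let δ : ∀ U : X.Opens, Γ(X, U) →+ Γ(P, f ⁻¹ᵁ U) := fun U =>
    ((s.app (f ⁻¹ᵁ U)).hom.comp (OmegaSh.pullSect f Ω₃ U).hom).comp (d₃.app U)
  have hδmul : ∀ U (a b : Γ(X, U)), δ U (a * b) = f.app U a • δ U b + f.app U b • δ U a := fun U a b => by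
    show s.app _ (OmegaSh.pullSect f Ω₃ U (d₃.app U (a * b))) = _
    rw [app_mul, map_add, PrinLib.pullSect_smul, PrinLib.pullSect_smul, map_add, Scheme.Modules.Hom.app_smul,
      Scheme.Modules.Hom.app_smul]
    rfl
  have hδone : ∀ U, δ U 1 = 0 := fun U => by
    show s.app _ (OmegaSh.pullSect f Ω₃ U (d₃.app U 1)) = _
    rw [app_one, map_zero, map_zero]
  have hδmap : ∀ {U U' : X.Opens} (h : U' ≤ U) (a : Γ(X, U)),
      δ U' (X.presheaf.map (homOfLE h).op a) = resM P (f.preimage_mono h) (δ U a) := fun {U U'} h a => by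
    show s.app _ (OmegaSh.pullSect f Ω₃ U' (d₃.app U' _)) = _
    rw [app_map d₃ h a]
    refine (congrArg (s.app _) (congr(($(((Scheme.Modules.pullbackPushforwardAdjunction f).unit.app
      Ω₃).mapPresheaf.naturality (homOfLE h).op)) (d₃.app U a)))).trans ?_
    exact app_resM s (f.preimage_mono h) _
  have hδc : ∀ U (a : Γ(X, U)), c.app _ (δ U a) = d₂.app _ (f.app U a) := fun U a => by
    rw [← hdf U a, ← hs]
    rfl
  have key : ∀ (U : X.Opens) (a : Γ(X, U)), ∃! x : Γ(C, pre U),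
      i.app (pre U) x = D.presheaf.map (homOfLE (hpre U)).op (f.app U a) ∧
        pd i d₁ (pre U) x = resM P (hpre U) (δ U a) := fun U a => by
    refine exists_unique_section i d₁ hI hφ hc hw hS _ _ ?_
    rw [app_resM, hδc, app_map]
  choose G hG using fun U a => (key U a).exists
  have uniq : ∀ {V : C.Opens} {x y : Γ(C, V)}, i.app V x = i.app V y → pd i d₁ V x = pd i d₁ V y → x = y :=
    fun h₀ h₁ => eq_of_app_eq i d₁ hI hφ hw hS h₀ h₁
  have pd_one : ∀ V, pd i d₁ V 1 = 0 := fun V => by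
    show OmegaSh.pullSect i Ω₁ V (d₁.app V 1) = 0
    rw [app_one, map_zero]
  let G' : ∀ U : X.Opens, Γ(X, U) →+* Γ(C, pre U) := fun U =>
    { toFun := G U
      map_one' := uniq (by rw [(hG U 1).1, map_one, map_one, map_one]) (by rw [(hG U 1).2, hδone, map_zero, pd_one])
      map_zero' := uniq (by rw [(hG U 0).1, map_zero, map_zero, map_zero])
        (by rw [(hG U 0).2, map_zero, map_zero, map_zero])
      map_add' := fun a b => uniq (by rw [(hG U _).1, map_add, map_add, map_add, (hG U a).1, (hG U b).1])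
        (by rw [(hG U _).2, map_add, map_add, map_add, (hG U a).2, (hG U b).2])
      map_mul' := fun a b => uniq (by rw [(hG U _).1, map_mul, map_mul, map_mul, (hG U a).1, (hG U b).1])
        (by rw [(hG U _).2, hδmul, map_add, resM_smul, resM_smul, pd_mul, (hG U a).1, (hG U a).2, (hG U b).1,
          (hG U b).2]) }
  have hmono : ∀ {U U' : X.Opens}, U' ≤ U → pre U' ≤ pre U := fun h y hy => h hy
  have hnat : ∀ {U U' : X.Opens} (h : U' ≤ U) (a : Γ(X, U)),
      G U' (X.presheaf.map (homOfLE h).op a) = C.presheaf.map (homOfLE (hmono h)).op (G U a) := by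
    intro U U' h a
    refine uniq ?_ ?_
    · rw [(hG U' _).1, app_res i, (hG U a).1, app_res f, ← Functor.map_comp_apply, ← Functor.map_comp_apply]
      rfl
    · rw [(hG U' _).2, hδmap, pd_map, (hG U a).2, resM_resM, resM_resM]
  let g : C ⟶ X := Scheme.Hom.mk
    { base := TopCat.ofHom gb
      c :=
        { app := fun U => CommRingCat.ofHom (G' U.unop)
          naturality := fun U U' h => by
            ext a
            exact hnat h.unop.le a }
      prop := fun y => by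
        constructor
        intro t ht
        obtain ⟨U, hU, a, rfl⟩ := X.presheaf.exists_germ_eq t
        erw [PresheafedSpace.stalkMap_germ_apply] at ht
        obtain ⟨z, rfl⟩ := surjective_i i hI y
        have hz : i z ∈ pre U := hU
        have h1 : i z ∈ C.basicOpen (G U a) := (C.mem_basicOpen _ _ hz).2 ht
        have h2 : z ∈ i ⁻¹ᵁ C.basicOpen (G U a) := h1
        rw [Scheme.preimage_basicOpen, (hG U a).1, Scheme.basicOpen_res, ← Scheme.preimage_basicOpen] at h2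
        have h3 : gb (i z) ∈ X.basicOpen a := by
          show f (e.symm (i z)) ∈ X.basicOpen a
          rw [he z]
          exact h2.2
        exact (X.mem_basicOpen _ _ hU).1 h3 }
  refine ⟨g, ?_, ?_, fun U a h => ?_⟩
  · refine Scheme.Hom.ext (by ext z; exact congrArg f (he z)) fun U => ?_
    ext a
    show D.presheaf.map _ (i.app (pre U) (G U a)) = f.app U a
    rw [(hG U a).1, ← Functor.map_comp_apply]
    exact (congrArg (fun m => D.presheaf.map m (f.app U a)) (Subsingleton.elim _ (𝟙 _))).trans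
      (congr($(D.presheaf.map_id _) (f.app U a)))
  · have hbase : ∀ y : C, pX (f (e.symm y)) = pC y := fun y => by
      obtain ⟨z, hz⟩ := e.surjective y
      subst hz
      rw [e.symm_apply_apply]
      exact congrArg (fun m : D ⟶ S => m z) hf
    refine Scheme.Hom.ext (by ext y; exact hbase y) fun W => ?_
    ext a
    have hle : pC ⁻¹ᵁ W ≤ pre (pX ⁻¹ᵁ W) := fun y hy => by
      show pX (f (e.symm y)) ∈ W
      rw [hbase y]
      exact hy
    refine uniq ?_ ?_
    · show i.app (pC ⁻¹ᵁ W) (C.presheaf.map (homOfLE hle).op (G (pX ⁻¹ᵁ W) (pX.app W a))) =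
        i.app (pC ⁻¹ᵁ W) (pC.app W a)
      have h1 : ∀ (m : D ⟶ S), m = i ≫ pC → ∀ (h : (i ≫ pC) ⁻¹ᵁ W ≤ m ⁻¹ᵁ W),
          D.presheaf.map (homOfLE h).op (m.app W a) = (i ≫ pC).app W a := by
        rintro m rfl h
        exact congr($(D.presheaf.map_id _) _)
      rw [app_res i, (hG _ _).1, ← Functor.map_comp_apply]
      exact h1 (f ≫ pX) hf (fun z hz => (hpre _) (i.preimage_mono hle hz))
    · show pd i d₁ (pC ⁻¹ᵁ W) (C.presheaf.map (homOfLE hle).op (G (pX ⁻¹ᵁ W) (pX.app W a))) =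
        pd i d₁ (pC ⁻¹ᵁ W) (pC.app W a)
      rw [pd_map, (hG _ _).2]
      show resM P _ (resM P _ (s.app _ (OmegaSh.pullSect f Ω₃ _ (d₃.app _ (pX.app W a))))) =
        OmegaSh.pullSect i Ω₁ _ (d₁.app _ (pC.app W a))
      rw [app_app, app_app, map_zero, map_zero, map_zero, map_zero, map_zero]
  · show resM P h (pd i d₁ (pre U) (G U a)) = δ U a
    rw [(hG U a).2]
    exact (resM_resM P (hpre U) h _).trans (resM_refl P _)

include hI hφ hS in
/-- Maps out of `C` are determined by their restriction and their map on differentials. -/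
theorem hom_ext_of_isPdMap {g₁ g₂ : C ⟶ X} (e₁ : i ≫ g₁ = f) (e₂ : i ≫ g₂ = f)
    {s : (Scheme.Modules.pullback f).obj Ω₃ ⟶ (Scheme.Modules.pullback i).obj Ω₁}
    (h₁ : IsPdMap i d₁ f d₃ g₁ s) (h₂ : IsPdMap i d₁ f d₃ g₂ s) : g₁ = g₂ := by
  have hb : g₁.base = g₂.base := by
    ext y
    obtain ⟨z, rfl⟩ := surjective_i i hI y
    exact congrArg (fun m : D ⟶ X => m z) (e₁.trans e₂.symm)
  refine Scheme.Hom.ext hb fun U => ?_
  ext a
  have hle : g₂ ⁻¹ᵁ U ≤ g₁ ⁻¹ᵁ U := fun y hy => by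
    show g₁.base y ∈ U
    rw [hb]
    exact hy
  refine eq_of_app_eq i d₁ hI hφ hw hS ?_ ?_
  · show i.app _ (C.presheaf.map (homOfLE hle).op (g₁.app U a)) = i.app _ (g₂.app U a)
    subst e₁
    rw [app_res i]
    exact (congr($(Scheme.Hom.congr_app e₂ U) a)).symm
  · show pd i d₁ _ (C.presheaf.map (homOfLE hle).op (g₁.app U a)) = pd i d₁ _ (g₂.app U a)
    subst e₂
    rw [pd_map]
    have hle' : (i ≫ g₂) ⁻¹ᵁ U ≤ i ⁻¹ᵁ (g₁ ⁻¹ᵁ U) := i.preimage_mono hle
    exact (h₁ U a hle').trans ((h₂ U a (le_refl _)).symm.trans (resM_refl _ _))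

end Back

end Groth.Agent.Ribbon18
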