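import Groth.Agent.Ribbon18.Class
import Groth.Agent.Omega15.RetractSeq
import Groth.Agent.Omega15.Compat
import Groth.Agent.Omega15.ConormalDiffExist
import Groth.Agent.OmegaLib.DOmega

/-! # Split square-zero thickenings -/

set_option autoImplicit false
set_option backward.isDefEq.respectTransparency false
set_option backward.isDefEq.respectTransparency.types false
set_option linter.style.haveILetI false
set_option maxHeartbeats 1000000

universe u

open CategoryTheory CategoryTheory.Limits AlgebraicGeometry TopologicalSpace Opposite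
open Groth.Agent.OmegaLib Groth.Agent.Thick15 Groth.Agent.Omega15 Groth.Agent.Coherent

noncomputable section

namespace Groth.Agent.Ribbon18

theorem ker_iso_comp_subschemeι {C D : Scheme.{u}} (I : C.IdealSheafData) (e : D ⟶ I.subscheme) [IsIso e] :
    (e ≫ I.subschemeι).ker = I := by
  rw [Scheme.Hom.ker_comp_of_isIso, Scheme.IdealSheafData.ker_subschemeι]

variable {D C S : Scheme.{u}} {i : D ⟶ C} {pC : C ⟶ S} [IsClosedImmersion i] [QuasiSeparated pC]

/-- The restricted cotangent sequence of a thickening with a retraction, as split data. -/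
theorem exists_split_data (pD : D ⟶ S) (hp : i ≫ pC = pD) {Ω₂ : D.Modules} (d₂ : OmegaSh.Der pD Ω₂)
    (hd₂ : OmegaSh.IsUniversal d₂) (g : C ⟶ D) (hgi : i ≫ g = 𝟙 D) (hgS : g ≫ i ≫ pC = pC) :
    ∃ (Ω₁ : C.Modules) (d₁ : OmegaSh.Der pC Ω₁) (_ : OmegaSh.IsUniversal d₁)
      (φ : Omega.conormal i ⟶ (Scheme.Modules.pullback i).obj Ω₁) (_ : OmegaSh.IsConormalDiff i d₁ φ)
      (c : (Scheme.Modules.pullback i).obj Ω₁ ⟶ Ω₂) (_ : OmegaSh.IsDiffCompat i d₁ d₂ c)
      (r : (Scheme.Modules.pullback i).obj Ω₁ ⟶ Omega.conormal i)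
      (σ : Ω₂ ⟶ (Scheme.Modules.pullback i).obj Ω₁) (hw : φ ≫ c = 0),
      φ ≫ r = 𝟙 _ ∧ σ ≫ c = 𝟙 _ ∧ (ShortComplex.mk φ c hw).ShortExact := by
  subst hp
  have hd₁ := OmegaLib.isUniversal_dOmega pC
  obtain ⟨φ, hφ⟩ := Omega15.exists_conormalDiff i (OmegaSh.dOmega pC)
  obtain ⟨c, hc, -⟩ := existsUnique_compat i (𝟙 S) (Category.comp_id _) hd₁ d₂
  obtain ⟨hw, r, σ, h₁, h₂, h₃⟩ := exists_splitting hgi hgS hd₁ hd₂ hφ hc
  exact ⟨_, _, hd₁, φ, hφ, c, hc, r, σ, hw, h₁, h₂,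
    (ShortComplex.Splitting.shortExact
      (ShortComplex.Splitting.mk (S := ShortComplex.mk φ c hw) r σ h₁ h₂ h₃))⟩

end Groth.Agent.Ribbon18
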